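import Mathlib
import Cfsg.Agent.Lib.PF.Final.FixedInd
import Cfsg.Agent.Lib.PF.Final.SideStrong
import Cfsg.Agent.Lib.OddMax.Sec15.Fitting

/-!
The data of `side_avg`, `side_strong` for a maximal subgroup of type II: `F = H C = F(M)`, the characters
`a c ↦ f a` with `f` a non-trivial fixed character of `H`.
-/

set_option autoImplicit false
set_option linter.unusedSectionVars false

namespace Cfsg.Agent.Lib.PF.Final

open Cfsg Subgroup
open Cfsg.Agent.Lib
open scoped commutatorElement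

universe u

variable {G : Type u} [Group G] [Finite G] {M W₁ U W₂ : Subgroup G} {p q : ℕ}

namespace TwoSetup

variable (h : TwoSetup M W₁ U W₂ p q)
include h

/-- `H C = F(M)`. -/
theorem sup_kerU_eq_fitting : fittingHallOf M ⊔ kerU M U = fittingOf M := by
  rw [← h.typeP.fitting_eq]
  refine le_antisymm (sup_le le_sup_left (le_sup_of_le_right
    (le_inf h.kerU_le inf_le_right))) (sup_le le_sup_left fun x hx => ?_)
  have hxd : x ∈ ⁅M, M⁆ := (h.typeP.fitting_eq.le.trans h.typeP.fitting_le) (mem_sup_right hx)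
  obtain ⟨a, ha, v, hv, rfl⟩ := h.typeP.U_compl.2.2.2 x hxd
  refine mul_mem (mem_sup_left ha) (mem_sup_right ⟨hv, mem_centralizer_iff.mpr fun y hy => ?_⟩)
  have h1 : Commute (a * v) y := (mem_centralizer_iff.mp hx.2 y hy).symm
  have h2 : Commute a y := congrArg Subtype.val (h.comm_H.is_comm.comm ⟨a, ha⟩ ⟨y, hy⟩)
  have h3 := (h2.inv_left.mul_left h1).eq
  rw [inv_mul_cancel_left] at h3
  exact h3.symm

theorem side_le : fittingHallOf M ⊔ kerU M U ≤ M :=
  sup_le (OddLocal.fittingHallOf_le M) h.kerU_le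

theorem side_le_normalizer : M ≤ normalizer ((fittingHallOf M ⊔ kerU M U : Subgroup G) : Set G) :=
  Sec9.le_normalizer_sup (OddLocal.le_normalizer_fittingHallOf M) h.kerU_normal

theorem side_comm : ∀ a ∈ fittingHallOf M ⊔ kerU M U, ∀ b ∈ fittingHallOf M ⊔ kerU M U,
    a * b = b * a := by
  intro x hx y hy
  obtain ⟨a, ha, c, hc, rfl⟩ := h.exists_mem_mul hx
  obtain ⟨b, hb, d, hd, rfl⟩ := h.exists_mem_mul hy
  have e1 : Commute a b := congrArg Subtype.val (h.comm_H.is_comm.comm ⟨a, ha⟩ ⟨b, hb⟩)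
  have e2 : Commute c d := congrArg Subtype.val (h.U_comm.is_comm.comm ⟨c, inf_le_left (a := U) hc⟩
    ⟨d, inf_le_left (a := U) hd⟩)
  have e3 : Commute a d := (h.commute_H_kerU ha hd).symm
  have e4 : Commute c b := h.commute_H_kerU hb hc
  exact ((e1.mul_right e3).mul_left (e4.mul_right e2)).eq

theorem card_side : Nat.card ↥(fittingHallOf M ⊔ kerU M U) = p ^ q * Nat.card (kerU M U) := by
  rw [← h.card_H, ← h.card_coreC, coreC, Nat.card_congr (subgroupOfEquivOfLe h.side_le).toEquiv]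

theorem relIndex_side :
    (fittingHallOf M ⊔ kerU M U).relIndex M = (kerU M U).relIndex U * q := by
  rw [mul_comm]
  exact h.index_coreC

/-- `F#` is a TI set with normaliser `M`. -/
theorem side_TI (hG : IsSimpleGroup G) (hM : IsCoatom M) :
    IsTISubset (((fittingHallOf M ⊔ kerU M U : Subgroup G) : Set G) \ {1}) ∧
      Subgroup.normalizer (((fittingHallOf M ⊔ kerU M U : Subgroup G) : Set G) \ {1}) = M := by
  obtain ⟨-, -, -, -, -, -, hTI, -⟩ := h.typeII
  rw [h.sup_kerU_eq_fitting]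
  set F := fittingOf M
  have hmem : ∀ g, g ∈ normalizer ((F : Set G) \ {1}) ↔ g ∈ normalizer (F : Set G) := by
    intro g
    refine ⟨fun hg => mem_normalizer_iff.mpr fun x => ?_, fun hg x => ?_⟩
    · rcases eq_or_ne x 1 with rfl | hx
      · simp [F.one_mem]
      · have := hg x
        simp only [Set.mem_sdiff, SetLike.mem_coe, Set.mem_singleton_iff] at this
        exact ⟨fun hxF => (this.mp ⟨hxF, hx⟩).1, fun hxF => (this.mpr ⟨hxF, by simp [hx]⟩).1⟩
    · simp only [Set.mem_sdiff, SetLike.mem_coe, Set.mem_singleton_iff]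
      rw [← mem_normalizer_iff.mp hg x]
      simp
  have hN : normalizer (F : Set G) = M := by
    rcases eq_or_ne (normalizer (F : Set G)) M with e | e
    · exact e
    · have htop : normalizer (F : Set G) = ⊤ := hM.2 _ (lt_of_le_of_ne
        (OddMax.Sec15.le_normalizer_fittingOf M) (Ne.symm e))
      haveI : F.Normal := normalizer_eq_top_iff.mp htop
      rcases hG.eq_bot_or_eq_top_of_normal F inferInstance with e' | e'
      · exfalso
        have h1 : fittingHallOf M ≤ F := (le_sup_left : fittingHallOf M ≤ fittingHallOf M ⊔ kerU M U).trans h.sup_kerU_eq_fitting.le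
        rw [e', le_bot_iff] at h1
        exact h.typeP.H_not_cyclic (h1 ▸ inferInstance)
      · exact absurd (top_le_iff.mp ((e'.ge.trans h.sup_kerU_eq_fitting.ge).trans h.side_le)) hM.1
  refine ⟨fun g hg x hx hgx => ?_, ?_⟩
  · exact hTI g (fun h' => hg ((hmem g).mpr h')) x hx.1 hgx.1
  · ext g
    rw [hmem, hN]

/-- `a c ↦ f a` on `H C` as a subgroup of `G`. -/
noncomputable def sideLin (f : ↥(fittingHallOf M) →* ℂˣ) :
    ↥(fittingHallOf M ⊔ kerU M U) →* ℂˣ :=
  (h.coreLin f 1).comp (subgroupOfEquivOfLe h.side_le).symm.toMonoidHom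

theorem sideLin_apply (f : ↥(fittingHallOf M) →* ℂˣ) (x : ↥(fittingHallOf M ⊔ kerU M U)) {a c : G}
    (ha : a ∈ fittingHallOf M) (hc : c ∈ kerU M U) (e : (x : G) = a * c) :
    h.sideLin f x = f ⟨a, ha⟩ := by
  show h.coreLin f 1 _ = _
  rw [h.coreLin_apply f 1 _ ha hc e, MonoidHom.one_apply, mul_one]

theorem sideLin_injective : Function.Injective h.sideLin := fun f f' e => MonoidHom.ext fun a => by
  rw [← h.sideLin_apply f ⟨a, mem_sup_left a.2⟩ a.2 (one_mem _) (mul_one _).symm, e,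
    h.sideLin_apply f' ⟨a, mem_sup_left a.2⟩ a.2 (one_mem _) (mul_one _).symm]

theorem sideLin_ne_one {f : ↥(fittingHallOf M) →* ℂˣ} (hf : f ≠ 1) : h.sideLin f ≠ 1 :=
  fun e => hf (MonoidHom.ext fun a => by
    rw [← h.sideLin_apply f ⟨a, mem_sup_left a.2⟩ a.2 (one_mem _) (mul_one _).symm, e]; rfl)

/-- The conjugate of `sideLin f` by `g ∈ M`, restricted to `H`. -/
theorem charOrbit_restrict {f : ↥(fittingHallOf M) →* ℂˣ}
    {l : ↥(fittingHallOf M ⊔ kerU M U) →* ℂˣ} {m : G}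
    (e : ∀ t t' : ↥(fittingHallOf M ⊔ kerU M U), (t' : G) = m * t * m⁻¹ → l t = h.sideLin f t')
    (x y : ↥(fittingHallOf M)) (exy : (y : G) = m * x * m⁻¹) :
    f y = l ⟨x, mem_sup_left x.2⟩ := by
  rw [e ⟨x, mem_sup_left x.2⟩ ⟨y, mem_sup_left y.2⟩ exy,
    h.sideLin_apply f ⟨y, mem_sup_left y.2⟩ y.2 (one_mem _) (mul_one _).symm]

/-- Two different fixed characters give disjoint orbits. -/
theorem sideLin_not_mem_charOrbit {f f' : ↥(fittingHallOf M) →* ℂˣ} (hf : IsFixedLin M W₁ f)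
    (hf' : IsFixedLin M W₁ f') (hf1 : f ≠ 1) (hne : f ≠ f') :
    h.sideLin f' ∉ charOrbit M (fittingHallOf M ⊔ kerU M U) (h.sideLin f) := by
  rintro ⟨m, hm, e⟩
  refine hne (h.mem_of_conj_fixed hf hf' hf1 hm fun x y exy => ?_).1
  rw [h.charOrbit_restrict e x y exy,
    h.sideLin_apply f' ⟨x, mem_sup_left x.2⟩ x.2 (one_mem _) (mul_one _).symm]

/-- The orbit has `|U : C|` elements. -/
theorem ncard_charOrbit_sideLin {f : ↥(fittingHallOf M) →* ℂˣ} (hf : IsFixedLin M W₁ f) (hf1 : f ≠ 1) :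
    (charOrbit M (fittingHallOf M ⊔ kerU M U) (h.sideLin f)).ncard = (kerU M U).relIndex U := by
  classical
  set F := fittingHallOf M ⊔ kerU M U
  have hn : ∀ v : ↥U, (v : G) ∈ normalizer (F : Set G) := fun v =>
    h.side_le_normalizer (Sec9.U_le_M h.typeP v.2)
  let cH : ↥U → (↥F →* ↥F) := fun v => MonoidHom.mk'
    (fun x => (⟨(v : G) * x * (v : G)⁻¹, (mem_normalizer_iff.mp (hn v) x).mp x.2⟩ : ↥F))
    (fun a b => Subtype.ext (by simp [mul_assoc]))
  let Φ : ↥U ⧸ (kerU M U).subgroupOf U → (↥F →* ℂˣ) := fun z => (h.sideLin f).comp (cH z.out)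
  have key : ∀ v v' : ↥U, (h.sideLin f).comp (cH v) = (h.sideLin f).comp (cH v') ↔
      (v : G) * (v' : G)⁻¹ ∈ kerU M U := by
    intro v v'
    constructor
    · intro e
      refine h.mem_kerU_of_fixed hf hf1 (mul_mem v.2 (inv_mem v'.2)) fun x y exy => ?_
      have hz : (v' : G)⁻¹ * x * (v' : G) ∈ fittingHallOf M := by
        simpa using (mem_normalizer_iff.mp (Subgroup.inv_mem _
          (h.le_normalizer_H (mem_sup_left v'.2))) (x : G)).mp x.2
      have h1 := DFunLike.congr_fun e ⟨_, mem_sup_left hz⟩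
      simp only [MonoidHom.comp_apply] at h1
      rw [h.sideLin_apply f (cH v ⟨_, mem_sup_left hz⟩) y.2 (one_mem _) (by
          show (v : G) * ((v' : G)⁻¹ * x * (v' : G)) * (v : G)⁻¹ = y * 1
          rw [exy]; group),
        h.sideLin_apply f (cH v' ⟨_, mem_sup_left hz⟩) x.2 (one_mem _) (by
          show (v' : G) * ((v' : G)⁻¹ * x * (v' : G)) * (v' : G)⁻¹ = x * 1
          group)] at h1
      exact h1
    · intro hC
      refine MonoidHom.ext fun x => ?_
      show h.sideLin f (cH v x) = h.sideLin f (cH v' x)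
      refine congrArg _ (Subtype.ext ?_)
      show (v : G) * x * (v : G)⁻¹ = (v' : G) * x * (v' : G)⁻¹
      have h1 := h.side_comm _ (mem_sup_right hC) _ ((mem_normalizer_iff.mp (hn v') x).mp x.2)
      calc (v : G) * x * (v : G)⁻¹
          = ((v : G) * (v' : G)⁻¹) * ((v' : G) * x * (v' : G)⁻¹) * ((v : G) * (v' : G)⁻¹)⁻¹ := by group
        _ = _ := by rw [h1, mul_inv_cancel_right]
  have hsw : ∀ v v' : ↥U, (v : G) * (v' : G)⁻¹ ∈ kerU M U ↔
      ((v' : ↥U)⁻¹ * v) ∈ (kerU M U).subgroupOf U := by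
    intro v v'
    haveI := h.U_comm
    rw [mem_subgroupOf, Subgroup.coe_mul, Subgroup.coe_inv,
      show (v : G) * (v' : G)⁻¹ = (v' : G)⁻¹ * v from
        congrArg Subtype.val (h.U_comm.is_comm.comm v v'⁻¹)]
  have hinj : Function.Injective Φ := fun z z' e => by
    rw [← QuotientGroup.out_eq' z, ← QuotientGroup.out_eq' z']
    exact (QuotientGroup.eq.mpr ((hsw _ _).mp ((key _ _).mp e))).symm
  have hrange : charOrbit M F (h.sideLin f) = Set.range Φ := by
    ext l
    constructor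
    · rintro ⟨m, hm, e⟩
      obtain ⟨d, hd, w, hw, rfl⟩ := h.typeP.W₁_compl.2.2.2 m hm
      obtain ⟨a, ha, v, hv, rfl⟩ := h.typeP.U_compl.2.2.2 d hd
      -- move `w` to the left of `v`
      set v₁ : G := w⁻¹ * v * w
      have hv₁ : v₁ ∈ U := by
        simpa using (mem_normalizer_iff.mp (Subgroup.inv_mem _ (h.typeP.U_normal hw)) v).mp hv
      refine ⟨QuotientGroup.mk ⟨v₁, hv₁⟩, MonoidHom.ext fun x => ?_⟩
      set z : ↥U := (QuotientGroup.mk (⟨v₁, hv₁⟩ : ↥U) : ↥U ⧸ (kerU M U).subgroupOf U).out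
      have hz : (z : G) * v₁⁻¹ ∈ kerU M U := (hsw z ⟨v₁, hv₁⟩).mpr
        (QuotientGroup.eq.mp (QuotientGroup.out_eq' _).symm)
      show h.sideLin f (cH z x) = l x
      rw [show h.sideLin f (cH z x) = h.sideLin f (cH ⟨v₁, hv₁⟩ x) from
        DFunLike.congr_fun ((key z ⟨v₁, hv₁⟩).mpr hz) x]
      set y : ↥F := cH ⟨v₁, hv₁⟩ x
      have hy : w * (y : G) * w⁻¹ ∈ F :=
        (mem_normalizer_iff.mp (h.side_le_normalizer (Sec9.W₁_le_M h.typeP hw)) _).mp y.2
      rw [e x ⟨_, hy⟩ ?_]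
      · obtain ⟨b, hb, c, hc, hbc⟩ := h.exists_mem_mul y.2
        have hb' : w * b * w⁻¹ ∈ fittingHallOf M :=
          (mem_normalizer_iff.mp (h.le_normalizer_H (mem_sup_right hw)) b).mp hb
        have hc' : w * c * w⁻¹ ∈ kerU M U :=
          (mem_normalizer_iff.mp (h.kerU_normal (Sec9.W₁_le_M h.typeP hw)) c).mp hc
        rw [h.sideLin_apply f y hb hc hbc, h.sideLin_apply f ⟨_, hy⟩ hb' hc' (by
          show w * (y : G) * w⁻¹ = _
          rw [hbc]; group)]
        exact (hf w hw ⟨b, hb⟩ ⟨_, hb'⟩ rfl).symm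
      · show w * (v₁ * (x : G) * v₁⁻¹) * w⁻¹ = a * v * w * x * (a * v * w)⁻¹
        have hz2 : v * w * (x : G) * (v * w)⁻¹ ∈ F :=
          (mem_normalizer_iff.mp (h.side_le_normalizer
            (mul_mem (Sec9.U_le_M h.typeP hv) (Sec9.W₁_le_M h.typeP hw))) x).mp x.2
        calc w * (v₁ * (x : G) * v₁⁻¹) * w⁻¹ = v * w * x * (v * w)⁻¹ := by
              simp only [v₁]; group
          _ = a * (v * w * x * (v * w)⁻¹) * a⁻¹ := by
              rw [h.side_comm a (mem_sup_left ha) _ hz2, mul_inv_cancel_right]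
          _ = _ := by group
    · rintro ⟨z, rfl⟩
      exact ⟨(z.out : G), Sec9.U_le_M h.typeP z.out.2, fun t t' e =>
        congrArg (h.sideLin f) (Subtype.ext (show (z.out : G) * t * (z.out : G)⁻¹ = t' from e.symm))⟩
  rw [hrange, Set.ncard_range_of_injective hinj]
  rfl

end TwoSetup

end Cfsg.Agent.Lib.PF.Final
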