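import Mathlib
import Cfsg.Agent.Lib.PF.Sec8.Weak
import Cfsg.Agent.Lib.PF.Final.Cover

/-!
# Masses of the sets `Ã` of a Dade set-up
-/

set_option autoImplicit false
set_option linter.unusedSectionVars false

namespace Cfsg.Agent.Lib.PF.Final

open Cfsg Subgroup
open Cfsg.Agent.Lib

universe u

variable {G : Type u} [Group G] [Fintype G] {A : Set G} {L : Subgroup G} [Fintype L]
  {R : G → Subgroup G}

/-- The mass of the constant one on the support of a Dade set-up is `|A| / |L|`. -/
theorem support_card_div (hD : DadeHypothesis A L R) :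
    (Set.ncard (Dade.support A R) : ℝ) / Nat.card G = (Set.ncard A : ℝ) / Nat.card L := by
  classical
  have h := Dade.sum_support hD (fun _ : G => (1 : ℂ)) (fun _ _ => rfl)
  have hR : ∀ a : G, ((Finset.univ.filter fun u : G => u ∈ R a).card : ℂ) = Nat.card (R a) :=
    fun a => by
      rw [Nat.card_eq_fintype_card]
      exact_mod_cast (Fintype.card_subtype _).symm
  have hA : ((Finset.univ.filter fun a : L => (a : G) ∈ A).card) = Set.ncard A := by
    rw [← Finset.card_map (Function.Embedding.subtype fun g : G => g ∈ L),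
      ← Set.ncard_coe_finset]
    congr 1
    ext g
    simp only [Finset.coe_map, Set.mem_image, Finset.coe_filter, Finset.mem_univ, true_and]
    exact ⟨fun ⟨a, ha, e⟩ => e ▸ ha, fun hg => ⟨⟨g, hD.subset hg⟩, hg, rfl⟩⟩
  have hS : (Finset.univ.filter fun g : G => g ∈ Dade.support A R).card =
      Set.ncard (Dade.support A R) := by
    rw [← Set.ncard_coe_finset]
    congr 1
    ext g
    simp
  simp only [Finset.sum_const, nsmul_eq_mul, mul_one] at h
  simp only [hR, inv_mul_cancel₀ (Nat.cast_ne_zero.mpr Nat.card_pos.ne' : ((Nat.card (R _) : ℕ) : ℂ) ≠ 0),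
    Finset.sum_const, nsmul_eq_mul, mul_one, hA, hS] at h
  apply Complex.ofReal_injective
  push_cast
  rw [div_eq_inv_mul, div_eq_inv_mul]
  exact h

/-- A constant absolute value `c` on the support has mass `c² |A| / |L|`. -/
theorem support_mass_const (hD : DadeHypothesis A L R) {χ : G → ℂ} {c : ℝ}
    (hc : ∀ g ∈ Dade.support A R, ‖χ g‖ = c) :
    (Nat.card G : ℝ)⁻¹ * ∑ g ∈ (Dade.support A R).toFinite.toFinset, ‖χ g‖ ^ 2 =
      c ^ 2 * ((Set.ncard A : ℝ) / Nat.card L) := by
  rw [← support_card_div hD, Finset.sum_congr rfl fun g hg => by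
      rw [hc g ((Set.Finite.mem_toFinset _).mp hg)],
    Finset.sum_const, ← Set.ncard_eq_toFinset_card, nsmul_eq_mul]
  ring

/-- The sets `Ã₁(M)`, `Ã(M)`, `Ã₀(M)` of a maximal subgroup. -/
theorem typeSet_card_div {M : Subgroup G} [Fintype M] (hG : IsMinSimpleOddOrder G) (hM : IsCoatom M)
    {B : Set G} (hB : B = typeA1 M ∨ B = typeA M ∨ B = typeA0 M) :
    (Set.ncard (tildeOf M B) : ℝ) / Nat.card G = (Set.ncard B : ℝ) / Nat.card M := by
  rw [tildeOf_eq_support]
  exact support_card_div (PF.Sec8.dade_strict hG hM hB).2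

end Cfsg.Agent.Lib.PF.Final
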