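import Mathlib
import Cfsg.Agent.Lib.PF.Final.Assembly
import Cfsg.Agent.Lib.PF.Final.OverNormExists

/-!
# `S` and `T` are not both of type II
-/

set_option autoImplicit false
set_option linter.unusedSectionVars false

namespace Cfsg.Agent.Lib.PF.Final

open Cfsg Subgroup

universe u

variable {G : Type u} [Group G] [Fintype G] {S T W₁ W₂ U V : Subgroup G}

/-- The case of two maximal subgroups of type II with `|W₁| < |W₂|`. -/
theorem Duo.false_of_two_lt (d : Duo S T W₁ W₂ U V) (hT : IsOfTypeII T)
    (hlt : Nat.card W₁ < Nat.card W₂) : False := by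
  obtain ⟨fS, fT⟩ := full_two d hT
  exact d.false_of_two_over hT hlt
    (hasOverNorm d.isPartner fS.setup fT.setup fT.kerU_eq fT.card_U)
    (hasOverNorm_swap d.isPartner d.kStarS fS.setup fT.setup fS.kerU_eq fS.card_U)

/-- `T` is not of type II. -/
theorem Duo.not_typeII (d : Duo S T W₁ W₂ U V) : ¬ IsOfTypeII T := fun hT =>
  d.false_of_two hT fun d' hT' hlt => d'.false_of_two_lt hT' hlt

end Cfsg.Agent.Lib.PF.Final
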