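import Mathlib
import Cfsg.Agent.Lib.PF.Final.TypeIILines

/-!
The number of irreducible characters of degree `q u` given by the regular linear characters of `H`.
-/

set_option autoImplicit false
set_option linter.unusedSectionVars false

namespace Cfsg.Agent.Lib.PF.Final

open Cfsg Subgroup
open Cfsg.Agent.Lib
open scoped commutatorElement

universe u

variable {G : Type u} [Group G] [Finite G] {M W₁ U W₂ : Subgroup G} {p q : ℕ}

namespace TwoSetup

variable (h : TwoSetup M W₁ U W₂ p q)
include h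

/-- There are at least `(number of regular f) / (q u)` irreducible characters of degree `q u` that are
constant on the cosets of `C` and vanish off `H C`. -/
theorem exists_family_of_regular [Fintype ↥M] :
    ∃ S : Finset (↥M → ℂ),
      (∀ χ ∈ S, IsIrrCharacter ↥M χ ∧ χ 1 = ((q * (kerU M U).relIndex U : ℕ) : ℂ) ∧
        (∀ g : ↥M, g ∉ coreC M U → χ g = 0) ∧
        ∀ c : ↥M, (c : G) ∈ kerU M U → χ c = χ 1) ∧
      {f | IsRegularLin M W₁ U f}.ncard ≤ S.card * (q * (kerU M U).relIndex U) := by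
  classical
  haveI : Finite (↥(fittingHallOf M) →* ℂˣ) :=
    Nat.finite_of_card_ne_zero (by rw [h.card_homs]; exact (pow_pos h.prime_p.pos q).ne')
  haveI := Fintype.ofFinite (↥(fittingHallOf M) →* ℂˣ)
  haveI hN := h.coreC_normal
  haveI : Fintype (coreC M U) := Fintype.ofFinite _
  have hex : ∀ f : {f : ↥(fittingHallOf M) →* ℂˣ // IsRegularLin M W₁ U f},
      ∃ F : ↥(coreC M U) →* ℂˣ,
      (∀ (x : ↥(coreC M U)) (a c : G) (ha : a ∈ fittingHallOf M), c ∈ kerU M U →
        ((x : ↥M) : G) = a * c → F x = f.1 ⟨a, ha⟩) ∧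
      IsIrrCharacter ↥M (indFun (coreC M U) fun x => (F x : ℂ)) ∧
      indFun (coreC M U) (fun x => (F x : ℂ)) 1 = ((q * (kerU M U).relIndex U : ℕ) : ℂ) ∧
      ∀ g : ↥M, g ∉ coreC M U → indFun (coreC M U) (fun x => (F x : ℂ)) g = 0 :=
    fun f => h.exists_irr_of_regular f.2
  choose F hF hirr hdeg hoff using hex
  let χ : {f : ↥(fittingHallOf M) →* ℂˣ // IsRegularLin M W₁ U f} → ↥M → ℂ :=
    fun f => indFun (coreC M U) fun x => (F f x : ℂ)
  refine ⟨Finset.univ.image χ, fun x hx => ?_, ?_⟩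
  · obtain ⟨f, -, rfl⟩ := Finset.mem_image.mp hx
    refine ⟨hirr f, hdeg f, hoff f, fun c hc => ?_⟩
    simp only [χ, indFun, mul_one, inv_mul_cancel]
    congr 1
    refine Finset.sum_congr rfl fun y _ => ?_
    have hC : ((y⁻¹ * c * y : ↥M) : G) ∈ kerU M U := by
      simpa using (mem_normalizer_iff.mp (Subgroup.inv_mem _ (h.kerU_normal y.2)) (c : G)).mp hc
    have hmem : y⁻¹ * c * y ∈ coreC M U := mem_subgroupOf.mpr (mem_sup_right hC)
    rw [Chars.extendByZero_of_mem _ hmem, Chars.extendByZero_of_mem _ (coreC M U).one_mem]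
    rw [hF f _ 1 _ (one_mem _) hC (one_mul _).symm,
      hF f _ 1 1 (one_mem _) (one_mem _) (one_mul _).symm]
  have hfib : ∀ x ∈ Finset.univ.image χ,
      ((Finset.univ : Finset _).filter (fun f => χ f = x)).card ≤
        q * (kerU M U).relIndex U := by
    intro x hx
    obtain ⟨f₀, -, rfl⟩ := Finset.mem_image.mp hx
    rw [← h.index_coreC]
    haveI : Fintype (↥M ⧸ coreC M U) := Fintype.ofFinite _
    let φ : ↥M ⧸ coreC M U → (↥(fittingHallOf M) →* ℂˣ) := fun z => f₀.1.comp (MonoidHom.mk'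
      (fun y : ↥(fittingHallOf M) => (⟨((z.out : ↥M) : G) * y * ((z.out : ↥M) : G)⁻¹,
        (mem_normalizer_iff.mp (OddLocal.le_normalizer_fittingHallOf M z.out.2) y).mp y.2⟩ :
          ↥(fittingHallOf M))) (fun a b => Subtype.ext (by simp [mul_assoc])))
    have hsub : ((Finset.univ : Finset _).filter (fun f => χ f = χ f₀)).image Subtype.val ⊆
        Finset.univ.image φ := by
      intro f hf
      obtain ⟨f, hf', rfl⟩ := Finset.mem_image.mp hf
      have heq : χ f = χ f₀ := (Finset.mem_filter.mp hf').2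
      have h1 : classInner (χ f) (χ f₀) = 1 := by
        rw [heq]; exact Chars.classInner_irr_self ⟨_, hirr f₀⟩
      simp only [χ] at h1
      rw [OddChar.classInner_indFun_indFun] at h1
      obtain ⟨g, hg⟩ : ∃ g : ↥M, classInner (fun x => (F f x : ℂ))
          (Clifford.conjFun g fun x => (F f₀ x : ℂ)) ≠ 0 := by
        by_contra hc
        push Not at hc
        rw [Finset.sum_eq_zero fun g _ => hc g, mul_zero] at h1
        exact zero_ne_one h1
      let G₀ : ↥(coreC M U) →* ℂˣ := (F f₀).comp (MulAut.conjNormal g : MulAut ↥(coreC M U)).toMonoidHom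
      have hconj : Clifford.conjFun g (fun x => (F f₀ x : ℂ)) = fun x => (G₀ x : ℂ) := rfl
      rw [hconj] at hg
      have heq2 : (fun x => (F f x : ℂ)) = fun x => (G₀ x : ℂ) := by
        by_contra hne
        exact hg (Chars.classInner_irr_of_ne (χ := ⟨_, Clifford.isIrrCharacter_hom (F f)⟩)
          (ψ := ⟨_, Clifford.isIrrCharacter_hom G₀⟩) fun e => hne (congrArg Subtype.val e))
      refine Finset.mem_image.mpr ⟨QuotientGroup.mk g, Finset.mem_univ _, MonoidHom.ext fun y => ?_⟩
      set r : ↥M := (QuotientGroup.mk g : ↥M ⧸ coreC M U).out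
      have hr : g⁻¹ * r ∈ coreC M U := QuotientGroup.eq.mp (QuotientGroup.out_eq' _).symm
      have hyM : (y : G) ∈ M := OddLocal.fittingHallOf_le M y.2
      obtain ⟨a, ha, c, hc, hac⟩ := h.exists_mem_mul hr
      have hyc : (⟨(y : G), hyM⟩ : ↥M) ∈ coreC M U := mem_sup_left y.2
      have h2 : (F f ⟨_, hyc⟩ : ℂ) = (G₀ ⟨_, hyc⟩ : ℂ) := congrFun heq2 _
      rw [hF f ⟨_, hyc⟩ y 1 y.2 (one_mem _) (mul_one _).symm] at h2
      show f₀.1 _ = f.1 y
      refine Units.ext ?_
      rw [h2]
      have hry : (r : G) * y * (r : G)⁻¹ = (g : G) * y * (g : G)⁻¹ := by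
        have hr' : (r : G) = g * (a * c) := by
          rw [← hac, Subgroup.coe_subtype, Subgroup.coe_mul, Subgroup.coe_inv, mul_inv_cancel_left]
        have hcy : Commute (a * c) (y : G) := by
          refine Commute.mul_left ?_ ?_
          · exact congrArg Subtype.val (h.comm_H.is_comm.comm ⟨a, ha⟩ y)
          · exact (mem_centralizer_iff.mp (Subgroup.mem_inf.mp hc).2 _ y.2).symm
        rw [hr', show (g : G) * (a * c) * y * (g * (a * c))⁻¹ =
          g * ((a * c) * y * (a * c)⁻¹) * (g : G)⁻¹ by group, hcy.eq, mul_inv_cancel_right]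
      show ((f₀.1 _ : ℂˣ) : ℂ) = ((F f₀ _ : ℂˣ) : ℂ)
      rw [hF f₀ _ ((g : G) * y * (g : G)⁻¹) 1
        ((mem_normalizer_iff.mp (OddLocal.le_normalizer_fittingHallOf M g.2) y).mp y.2) (one_mem _)
        (mul_one _).symm]
      exact congrArg (fun z => ((f₀.1 z : ℂˣ) : ℂ)) (Subtype.ext hry)
    have h3 := Finset.card_le_card hsub
    rw [Finset.card_image_of_injective _ Subtype.val_injective] at h3
    refine h3.trans (Finset.card_image_le.trans ?_)
    rw [Finset.card_univ, ← Nat.card_eq_fintype_card]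
    exact le_rfl
  have h4 := Finset.card_le_mul_card_image (Finset.univ) (q * (kerU M U).relIndex U) hfib
  rw [Finset.card_univ, ← Nat.card_eq_fintype_card, mul_comm] at h4
  rw [← Nat.card_coe_set_eq]
  exact h4

end TwoSetup

end Cfsg.Agent.Lib.PF.Final
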