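import Mathlib
import Cfsg.Prelude.Def_OddOrderChar
import Cfsg.Agent.Lib.PF.Final.TypeIILines

/-!
The characters attached to regular linear characters of `H`, as members of the set induced from the
irreducible characters of `M'` trivial on `C`.
-/

set_option autoImplicit false
set_option linter.unusedSectionVars false

namespace Cfsg.Agent.Lib.PF.Final

open Cfsg Subgroup
open Cfsg.Agent.Lib
open scoped commutatorElement

universe u

variable {G : Type u} [Group G] [Finite G] {M W₁ U W₂ : Subgroup G} {p q : ℕ}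

namespace TwoSetup

variable (h : TwoSetup M W₁ U W₂ p q)
include h

/-- A regular `f` gives an irreducible member of degree `q u` of the set induced from `M'` above `C`. -/
theorem exists_member_of_regular [Fintype ↥M] {f : ↥(fittingHallOf M) →* ℂˣ}
    (hf : IsRegularLin M W₁ U f) :
    ∃ θ : ↥((⁅M, M⁆ : Subgroup G).subgroupOf M) → ℂ,
      IsIrrCharacter _ θ ∧ θ ≠ (fun _ => 1) ∧
      (∀ a : ↥((⁅M, M⁆ : Subgroup G).subgroupOf M), ((a : ↥M) : G) ∈ kerU M U → θ a = θ 1) ∧
      θ 1 = ((kerU M U).relIndex U : ℂ) ∧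
      (∀ a : ↥((⁅M, M⁆ : Subgroup G).subgroupOf M), (a : ↥M) ∉ coreC M U → θ a = 0) ∧
      indFun ((⁅M, M⁆ : Subgroup G).subgroupOf M) θ ∈
        inducedIrrAbove ((⁅M, M⁆ : Subgroup G).subgroupOf M) ((kerU M U).subgroupOf M) ∧
      IsIrrCharacter ↥M (indFun ((⁅M, M⁆ : Subgroup G).subgroupOf M) θ) ∧
      indFun ((⁅M, M⁆ : Subgroup G).subgroupOf M) θ 1 = ((q * (kerU M U).relIndex U : ℕ) : ℂ) := by
  classical
  obtain ⟨F, hF, hirr, hdeg, -⟩ := h.exists_irr_of_regular hf
  haveI hN := h.coreC_normal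
  set K := (⁅M, M⁆ : Subgroup G).subgroupOf M
  have hNK : coreC M U ≤ K := comap_mono (sup_le h.typeP.U_compl.1
    ((inf_le_left : kerU M U ≤ U).trans h.typeP.U_compl.2.1))
  haveI : Fintype K := Fintype.ofFinite K
  haveI hNK' : ((coreC M U).subgroupOf K).Normal := inferInstance
  let F' : ↥((coreC M U).subgroupOf K) →* ℂˣ :=
    F.comp (subgroupOfEquivOfLe hNK).toMonoidHom
  obtain ⟨hθ, hθ1⟩ := indFun_hom_irr F' (fun g hg => mem_subgroupOf.mpr
    (h.mem_coreC_of_fixed hf hF (g : ↥M) fun n => hg ⟨⟨(n : ↥M), hNK n.2⟩, n.2⟩))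
  have hidxK : K.index = q := by
    show (⁅M, M⁆ : Subgroup G).relIndex M = q
    rw [OddLocal.IsComplIn.relIndex_left h.typeP.W₁_compl, h.card_W₁]
  have hidx : ((coreC M U).subgroupOf K).index = (kerU M U).relIndex U := by
    have h1 := Subgroup.relIndex_mul_index hNK
    rw [hidxK, h.index_coreC, mul_comm] at h1
    exact Nat.eq_of_mul_eq_mul_left h.prime_q.pos h1
  rw [hidx] at hθ1
  have hind : indFun K (indFun ((coreC M U).subgroupOf K) fun x => (F' x : ℂ)) =
      indFun (coreC M U) fun x => (F x : ℂ) :=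
    Chars.indFun_trans (coreC M U) K hNK fun x : ↥(coreC M U) => (F x : ℂ)
  refine ⟨indFun ((coreC M U).subgroupOf K) fun x => (F' x : ℂ), hθ, fun e => ?_, fun a ha => ?_, hθ1,
    fun a ha => ?_, ?_, by rw [hind]; exact hirr, by rw [hind]; exact hdeg⟩
  · rw [e] at hθ1; beta_reduce at hθ1
    refine h.kerU_ne (le_antisymm inf_le_left (relIndex_eq_one.mp ?_))
    exact_mod_cast hθ1.symm
  · simp only [indFun, mul_one, inv_mul_cancel]
    congr 1
    refine Finset.sum_congr rfl fun y _ => ?_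
    have hC : ((((y⁻¹ * a * y : ↥K) : ↥M)) : G) ∈ kerU M U := by
      have hn : ((y : ↥M) : G) ∈ normalizer (kerU M U : Set G) := h.kerU_normal (y : ↥M).2
      simpa using (mem_normalizer_iff.mp (Subgroup.inv_mem _ hn) ((a : ↥M) : G)).mp ha
    rw [Chars.extendByZero_of_mem _ (mem_subgroupOf.mpr (mem_sup_right hC :
      (((y⁻¹ * a * y : ↥K) : ↥M)) ∈ coreC M U)),
      Chars.extendByZero_of_mem _ ((coreC M U).subgroupOf K).one_mem]
    show ((F _ : ℂˣ) : ℂ) = ((F _ : ℂˣ) : ℂ)
    rw [hF _ 1 _ (one_mem _) hC (one_mul _).symm, hF _ 1 1 (one_mem _) (one_mem _) (one_mul _).symm]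
  · simp only [indFun]
    rw [Finset.sum_eq_zero fun y _ => ?_, mul_zero]
    refine Chars.extendByZero_of_not_mem _ fun hmem => ha ?_
    simpa [mul_assoc] using hN.conj_mem _ (mem_subgroupOf.mp hmem) (y : ↥M)
  · refine ⟨_, hθ, fun e => ?_, fun a ha => ?_, rfl⟩
    · rw [e] at hθ1; beta_reduce at hθ1
      refine h.kerU_ne (le_antisymm inf_le_left (relIndex_eq_one.mp ?_))
      exact_mod_cast hθ1.symm
    · simp only [indFun, mul_one, inv_mul_cancel]
      congr 1
      refine Finset.sum_congr rfl fun y _ => ?_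
      have hC : ((((y⁻¹ * a * y : ↥K) : ↥M)) : G) ∈ kerU M U := by
        have hn : ((y : ↥M) : G) ∈ normalizer (kerU M U : Set G) := h.kerU_normal (y : ↥M).2
        simpa using (mem_normalizer_iff.mp (Subgroup.inv_mem _ hn) ((a : ↥M) : G)).mp
          (mem_subgroupOf.mp ha)
      rw [Chars.extendByZero_of_mem _ (mem_subgroupOf.mpr (mem_sup_right hC :
        (((y⁻¹ * a * y : ↥K) : ↥M)) ∈ coreC M U)),
        Chars.extendByZero_of_mem _ ((coreC M U).subgroupOf K).one_mem]
      show ((F _ : ℂˣ) : ℂ) = ((F _ : ℂˣ) : ℂ)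
      rw [hF _ 1 _ (one_mem _) hC (one_mul _).symm, hF _ 1 1 (one_mem _) (one_mem _) (one_mul _).symm]

end TwoSetup

end Cfsg.Agent.Lib.PF.Final
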